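import Cfsg.Agent.Helper19.G23.Mod7

/-!
# Matrices commuting with a cyclic matrix

A `7 × 7` matrix over `F3` commuting with a matrix `M` having a cyclic vector (here: a basis vector
`e_m`) is a polynomial in `M`; so statements about the commutant of `M` can be checked by running
over the `3 ^ 7` polynomials of degree less than seven.
-/

set_option autoImplicit false
set_option linter.all false

namespace Cfsg.Agent.Helper19.G23

open Matrix

/-- the Krylov matrix: column `j` is column `m` of `M ^ j` -/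
def kry (M : M7) (m : Fin 7) : M7 := Matrix.of fun i j => (M ^ (j : ℕ)) i m

/-- the Krylov matrix in a form that evaluates well -/
def kryC (M : M7) (m : Fin 7) : M7 := Matrix.of fun i j => pw M j.val i m

theorem kryC_eq (M : M7) (m : Fin 7) : kryC M m = kry M m := by
  ext i j
  simp only [kryC, kry, Matrix.of_apply, pw_eq]

theorem eq_zero_of_col {M K' D : M7} {m : Fin 7} (hK : kry M m * K' = 1) (hD : D * M = M * D)
    (hcol : ∀ i, D i m = 0) : D = 0 := by
  have h1 : ∀ j : ℕ, D * M ^ j = M ^ j * D := fun j =>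
    (Commute.pow_right (show Commute D M from hD) j)
  have h2 : D * kry M m = 0 := by
    ext i j
    have := congrFun (congrFun (h1 j) i) m
    rw [Matrix.mul_apply, Matrix.mul_apply] at this
    rw [Matrix.mul_apply]
    simp only [kry, Matrix.of_apply, Matrix.zero_apply]
    rw [this]
    simp [hcol]
  calc D = D * (kry M m * K') := by rw [hK, mul_one]
    _ = 0 := by rw [← mul_assoc, h2, zero_mul]

/-- a polynomial in `M` -/
def polyF (M : M7) (c : Fin 7 → F3) : M7 := ∑ j : Fin 7, c j • M ^ (j : ℕ)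

theorem polyF_comm (M : M7) (c : Fin 7 → F3) : polyF M c * M = M * polyF M c := by
  unfold polyF
  rw [Finset.sum_mul, Finset.mul_sum]
  refine Finset.sum_congr rfl fun j _ => ?_
  rw [smul_mul_assoc, mul_smul_comm, ← pow_succ, ← pow_succ']

theorem exists_poly {M K' : M7} {m : Fin 7} (hK : kry M m * K' = 1) {X : M7}
    (hX : X * M = M * X) : ∃ c, X = polyF M c := by
  set c : Fin 7 → F3 := K' *ᵥ (fun i => X i m) with hc
  refine ⟨c, ?_⟩
  have hcol : ∀ i, (X - polyF M c) i m = 0 := by
    intro i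
    have h3 : kry M m *ᵥ c = fun i => X i m := by
      rw [hc, Matrix.mulVec_mulVec, hK, Matrix.one_mulVec]
    have h4 : (polyF M c) i m = (kry M m *ᵥ c) i := by
      unfold polyF
      rw [Matrix.sum_apply]
      simp only [Matrix.smul_apply, smul_eq_mul, Matrix.mulVec, dotProduct, kry, Matrix.of_apply]
      exact Finset.sum_congr rfl fun j _ => mul_comm _ _
    rw [Matrix.sub_apply, h4, h3, sub_self]
  have hD : (X - polyF M c) * M = M * (X - polyF M c) := by
    rw [sub_mul, mul_sub, hX, polyF_comm]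
  exact sub_eq_zero.mp (eq_zero_of_col hK hD hcol)

/-- a polynomial in `M`, in a form that evaluates well -/
def polyC (M : M7) (c0 c1 c2 c3 c4 c5 c6 : F3) : M7 := Matrix.of fun i j =>
  c0 * pw M 0 i j + c1 * pw M 1 i j + c2 * pw M 2 i j + c3 * pw M 3 i j + c4 * pw M 4 i j +
    c5 * pw M 5 i j + c6 * pw M 6 i j

theorem polyC_eq (M : M7) (c : Fin 7 → F3) :
    polyC M (c 0) (c 1) (c 2) (c 3) (c 4) (c 5) (c 6) = polyF M c := by
  ext i j
  unfold polyF
  rw [Matrix.sum_apply, Fin.sum_univ_seven]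
  simp only [polyC, Matrix.of_apply, pw_eq, Matrix.smul_apply, smul_eq_mul]
  rfl

/-- among the polynomials in `M` with given first three coefficients, only the identity has
`k`-th power one -/
def chkCommAt (M : M7) (k : ℕ) (c0 c1 c2 : F3) : Bool :=
  allF3 fun c3 => allF3 fun c4 => allF3 fun c5 => allF3 fun c6 =>
    !(eq7 (pw (polyC M c0 c1 c2 c3 c4 c5 c6) k) one7) || eq7 (polyC M c0 c1 c2 c3 c4 c5 c6) one7

/-- among the polynomials in `M`, only the identity has `k`-th power one -/
def chkComm (M : M7) (k : ℕ) : Bool :=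
  allF3 fun c0 => allF3 fun c1 => allF3 fun c2 => chkCommAt M k c0 c1 c2

theorem poly_trivial {M : M7} {k : ℕ} (h : chkComm M k = true) (c : Fin 7 → F3)
    (hc : polyF M c ^ k = 1) : polyF M c = 1 := by
  unfold chkComm at h
  have h3 := (allF3_iff _).mp ((allF3_iff _).mp ((allF3_iff _).mp h (c 0)) (c 1)) (c 2)
  unfold chkCommAt at h3
  have h7 := (allF3_iff _).mp ((allF3_iff _).mp ((allF3_iff _).mp ((allF3_iff _).mp h3 (c 3))
    (c 4)) (c 5)) (c 6)
  rw [polyC_eq, Bool.or_eq_true] at h7
  rcases h7 with h7 | h7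
  · have h8 : eq7 (pw (polyF M c) k) one7 = true := by
      rw [eq7_iff, pw_eq, one7_eq]
      exact hc
    rw [h8] at h7
    simp at h7
  · rw [eq7_iff, one7_eq] at h7
    exact h7

theorem chkComm_of {M : M7} {k : ℕ} (h : ∀ c0 c1 c2 : F3, chkCommAt M k c0 c1 c2 = true) :
    chkComm M k = true := by
  unfold chkComm
  rw [allF3_iff]; intro c0
  rw [allF3_iff]; intro c1
  rw [allF3_iff]; intro c2
  exact h c0 c1 c2

/-- the commutant of a cyclic matrix has no nontrivial elements of order dividing `k`, by a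
finite check -/
theorem comm_trivial {M K' : M7} {m : Fin 7} {k : ℕ}
    (hK : eq7 (mul7 (kryC M m) K') one7 = true) (hchk : chkComm M k = true) (X : M7)
    (hX : X * M = M * X) (hXk : X ^ k = 1) : X = 1 := by
  rw [eq7_iff, mul7_eq, one7_eq, kryC_eq] at hK
  obtain ⟨c, rfl⟩ := exists_poly hK hX
  exact poly_trivial hchk c hXk

/-- a matrix from a list of rows -/
def ofL (L : List (List F3)) : M7 := Matrix.of fun i j => (L.getD i.val []).getD j.val 0

/-- inverse of the Krylov matrix of the element of order 13 at the last basis vector -/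
def kinv13 : M7 := ofL [[2, 0, 0, 2, 2, 1, 1], [2, 2, 1, 0, 1, 0, 0], [0, 2, 2, 2, 2, 0, 0],
  [2, 0, 2, 0, 1, 2, 0], [1, 0, 0, 0, 1, 0, 0], [2, 1, 1, 2, 0, 1, 0], [0, 2, 0, 2, 2, 2, 0]]

/-- inverse of the Krylov matrix of the element of order 7 at the sixth basis vector -/
def kinv7 : M7 := ofL [[0, 1, 2, 1, 2, 1, 0], [2, 0, 2, 2, 1, 0, 2], [0, 0, 0, 2, 1, 0, 1],
  [1, 2, 2, 1, 1, 0, 1], [2, 0, 1, 2, 2, 0, 2], [1, 2, 2, 1, 2, 0, 2], [0, 2, 0, 1, 0, 0, 1]]

theorem kry13 : eq7 (mul7 (kryC (wm w13) 6) kinv13) one7 = true := by decide +kernel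

theorem kry7 : eq7 (mul7 (kryC (wm w7) 5) kinv7) one7 = true := by decide +kernel

end Cfsg.Agent.Helper19.G23
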