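import Cfsg.Agent.Helper19.G23.Comm7

/-! The commutant of the element of order 13 has no element of order 7, by kernel evaluation. -/

set_option autoImplicit false
set_option linter.all false

namespace Cfsg.Agent.Helper19.G23

theorem chk13_7_000 : chkCommAt (wm w13) 7 0 0 0 = true := by decide +kernel
theorem chk13_7_001 : chkCommAt (wm w13) 7 0 0 1 = true := by decide +kernel
theorem chk13_7_002 : chkCommAt (wm w13) 7 0 0 2 = true := by decide +kernel
theorem chk13_7_010 : chkCommAt (wm w13) 7 0 1 0 = true := by decide +kernel
theorem chk13_7_011 : chkCommAt (wm w13) 7 0 1 1 = true := by decide +kernel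
theorem chk13_7_012 : chkCommAt (wm w13) 7 0 1 2 = true := by decide +kernel
theorem chk13_7_020 : chkCommAt (wm w13) 7 0 2 0 = true := by decide +kernel
theorem chk13_7_021 : chkCommAt (wm w13) 7 0 2 1 = true := by decide +kernel
theorem chk13_7_022 : chkCommAt (wm w13) 7 0 2 2 = true := by decide +kernel
theorem chk13_7_100 : chkCommAt (wm w13) 7 1 0 0 = true := by decide +kernel
theorem chk13_7_101 : chkCommAt (wm w13) 7 1 0 1 = true := by decide +kernel
theorem chk13_7_102 : chkCommAt (wm w13) 7 1 0 2 = true := by decide +kernel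
theorem chk13_7_110 : chkCommAt (wm w13) 7 1 1 0 = true := by decide +kernel
theorem chk13_7_111 : chkCommAt (wm w13) 7 1 1 1 = true := by decide +kernel
theorem chk13_7_112 : chkCommAt (wm w13) 7 1 1 2 = true := by decide +kernel
theorem chk13_7_120 : chkCommAt (wm w13) 7 1 2 0 = true := by decide +kernel
theorem chk13_7_121 : chkCommAt (wm w13) 7 1 2 1 = true := by decide +kernel
theorem chk13_7_122 : chkCommAt (wm w13) 7 1 2 2 = true := by decide +kernel
theorem chk13_7_200 : chkCommAt (wm w13) 7 2 0 0 = true := by decide +kernel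
theorem chk13_7_201 : chkCommAt (wm w13) 7 2 0 1 = true := by decide +kernel
theorem chk13_7_202 : chkCommAt (wm w13) 7 2 0 2 = true := by decide +kernel
theorem chk13_7_210 : chkCommAt (wm w13) 7 2 1 0 = true := by decide +kernel
theorem chk13_7_211 : chkCommAt (wm w13) 7 2 1 1 = true := by decide +kernel
theorem chk13_7_212 : chkCommAt (wm w13) 7 2 1 2 = true := by decide +kernel
theorem chk13_7_220 : chkCommAt (wm w13) 7 2 2 0 = true := by decide +kernel
theorem chk13_7_221 : chkCommAt (wm w13) 7 2 2 1 = true := by decide +kernel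
theorem chk13_7_222 : chkCommAt (wm w13) 7 2 2 2 = true := by decide +kernel

theorem chk13_7 : chkComm (wm w13) 7 = true := by
  apply chkComm_of
  intro c0 c1 c2
  fin_cases c0 <;> fin_cases c1 <;> fin_cases c2
  · exact chk13_7_000
  · exact chk13_7_001
  · exact chk13_7_002
  · exact chk13_7_010
  · exact chk13_7_011
  · exact chk13_7_012
  · exact chk13_7_020
  · exact chk13_7_021
  · exact chk13_7_022
  · exact chk13_7_100
  · exact chk13_7_101
  · exact chk13_7_102
  · exact chk13_7_110
  · exact chk13_7_111
  · exact chk13_7_112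
  · exact chk13_7_120
  · exact chk13_7_121
  · exact chk13_7_122
  · exact chk13_7_200
  · exact chk13_7_201
  · exact chk13_7_202
  · exact chk13_7_210
  · exact chk13_7_211
  · exact chk13_7_212
  · exact chk13_7_220
  · exact chk13_7_221
  · exact chk13_7_222

end Cfsg.Agent.Helper19.G23
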