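import Cfsg.Agent.Helper19.G23.Comm7

/-! The commutant of the element of order 7 has no element of order 3, by kernel evaluation. -/

set_option autoImplicit false
set_option linter.all false

namespace Cfsg.Agent.Helper19.G23

theorem chk7_3_000 : chkCommAt (wm w7) 3 0 0 0 = true := by decide +kernel
theorem chk7_3_001 : chkCommAt (wm w7) 3 0 0 1 = true := by decide +kernel
theorem chk7_3_002 : chkCommAt (wm w7) 3 0 0 2 = true := by decide +kernel
theorem chk7_3_010 : chkCommAt (wm w7) 3 0 1 0 = true := by decide +kernel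
theorem chk7_3_011 : chkCommAt (wm w7) 3 0 1 1 = true := by decide +kernel
theorem chk7_3_012 : chkCommAt (wm w7) 3 0 1 2 = true := by decide +kernel
theorem chk7_3_020 : chkCommAt (wm w7) 3 0 2 0 = true := by decide +kernel
theorem chk7_3_021 : chkCommAt (wm w7) 3 0 2 1 = true := by decide +kernel
theorem chk7_3_022 : chkCommAt (wm w7) 3 0 2 2 = true := by decide +kernel
theorem chk7_3_100 : chkCommAt (wm w7) 3 1 0 0 = true := by decide +kernel
theorem chk7_3_101 : chkCommAt (wm w7) 3 1 0 1 = true := by decide +kernel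
theorem chk7_3_102 : chkCommAt (wm w7) 3 1 0 2 = true := by decide +kernel
theorem chk7_3_110 : chkCommAt (wm w7) 3 1 1 0 = true := by decide +kernel
theorem chk7_3_111 : chkCommAt (wm w7) 3 1 1 1 = true := by decide +kernel
theorem chk7_3_112 : chkCommAt (wm w7) 3 1 1 2 = true := by decide +kernel
theorem chk7_3_120 : chkCommAt (wm w7) 3 1 2 0 = true := by decide +kernel
theorem chk7_3_121 : chkCommAt (wm w7) 3 1 2 1 = true := by decide +kernel
theorem chk7_3_122 : chkCommAt (wm w7) 3 1 2 2 = true := by decide +kernel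
theorem chk7_3_200 : chkCommAt (wm w7) 3 2 0 0 = true := by decide +kernel
theorem chk7_3_201 : chkCommAt (wm w7) 3 2 0 1 = true := by decide +kernel
theorem chk7_3_202 : chkCommAt (wm w7) 3 2 0 2 = true := by decide +kernel
theorem chk7_3_210 : chkCommAt (wm w7) 3 2 1 0 = true := by decide +kernel
theorem chk7_3_211 : chkCommAt (wm w7) 3 2 1 1 = true := by decide +kernel
theorem chk7_3_212 : chkCommAt (wm w7) 3 2 1 2 = true := by decide +kernel
theorem chk7_3_220 : chkCommAt (wm w7) 3 2 2 0 = true := by decide +kernel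
theorem chk7_3_221 : chkCommAt (wm w7) 3 2 2 1 = true := by decide +kernel
theorem chk7_3_222 : chkCommAt (wm w7) 3 2 2 2 = true := by decide +kernel

theorem chk7_3 : chkComm (wm w7) 3 = true := by
  apply chkComm_of
  intro c0 c1 c2
  fin_cases c0 <;> fin_cases c1 <;> fin_cases c2
  · exact chk7_3_000
  · exact chk7_3_001
  · exact chk7_3_002
  · exact chk7_3_010
  · exact chk7_3_011
  · exact chk7_3_012
  · exact chk7_3_020
  · exact chk7_3_021
  · exact chk7_3_022
  · exact chk7_3_100
  · exact chk7_3_101
  · exact chk7_3_102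
  · exact chk7_3_110
  · exact chk7_3_111
  · exact chk7_3_112
  · exact chk7_3_120
  · exact chk7_3_121
  · exact chk7_3_122
  · exact chk7_3_200
  · exact chk7_3_201
  · exact chk7_3_202
  · exact chk7_3_210
  · exact chk7_3_211
  · exact chk7_3_212
  · exact chk7_3_220
  · exact chk7_3_221
  · exact chk7_3_222

end Cfsg.Agent.Helper19.G23
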