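import Cfsg.Agent.Helper19.G23.Rep7Hom
import Cfsg.Agent.S1077
import Cfsg.Agent.S1078
import Cfsg.Agent.S1055
import Cfsg.Agent.S1059

/-!
# The Steinberg group of type `G₂` over `F3` is `G₂(3)`
-/

set_option autoImplicit false
set_option linter.all false

namespace Cfsg.Agent.Helper19.G23

open Cfsg.Lie

/-- the presented group, abbreviated -/
abbrev St : Type := chevG2.SteinbergGroup F3

theorem card_F3 : Fintype.card F3 = 3 := ZMod.card 3

instance fact_three : Fact (Nat.Prime 3) := ⟨Nat.prime_three⟩

/-- Steinberg's isomorphism for `G₂(3)` -/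
theorem exists_iso : Nonempty (St ≃* ↥(chevG2.group F3)) := by
  obtain ⟨θ, hsurj, hker, -⟩ := Cfsg.Agent.S1077.result (K := F3) chevG2 (by simp)
  have hc : Subgroup.center St = ⊥ := Cfsg.Agent.S1078.result (K := F3) chevG2 (by simp)
  have hinj : Function.Injective θ := by
    rw [← MonoidHom.ker_eq_bot_iff, hker, hc]
  exact ⟨MulEquiv.ofBijective θ ⟨hinj, hsurj⟩⟩

instance : Finite St := by
  obtain ⟨e⟩ := exists_iso
  exact Finite.of_equiv _ e.symm.toEquiv

theorem card_group {F : Type*} [Field F] [Fintype F] (hF : Fintype.card F = 3) :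
    Nat.card ↥(chevG2.group F) = 4245696 := by
  rw [Cfsg.Agent.S1059.result (F := F) (q := 3) hF]
  norm_num

theorem card_St : Nat.card St = 4245696 := by
  obtain ⟨e⟩ := exists_iso
  rw [Nat.card_congr e.toEquiv, card_group card_F3]

theorem simple_St : IsSimpleGroup St := by
  obtain ⟨e⟩ := exists_iso
  have h := (Cfsg.Agent.S1055.result (F := F3) ⟨2, by decide, by decide⟩).1
  exact (MulEquiv.isSimpleGroup_congr e).mpr h

end Cfsg.Agent.Helper19.G23
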