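import Cfsg.Agent.Helper19.G23.Iso7

/-!
# The seven-dimensional representation of `G₂(3)`: faithfulness and some element orders
-/

set_option autoImplicit false
set_option linter.all false

namespace Cfsg.Agent.Helper19.G23

open Cfsg.Lie Matrix

/-- the element of the Steinberg group given by a word in the generators -/
def stW (w : List (ℕ × F3)) : St := PresentedGroup.mk (chevG2.steinbergRels F3) (chevG2.stWord w)

theorem rho7_stW (w : List (ℕ × F3)) : rho7 (stW w) = wU w := by
  have : rho7 (stW w) = lift7 (chevG2.stWord w) := rfl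
  rw [this, lift7_stWord]

theorem rho7_stW_val (w : List (ℕ × F3)) : ((rho7 (stW w) : M7ˣ) : M7) = wm w := by
  rw [rho7_stW, wU_val]

/-! ### faithfulness -/

theorem Y7_six_ne : Y7 6 1 ≠ 1 := by
  intro h
  have := congrFun (congrFun h 2) 1
  revert this
  decide

theorem rho7_injective : Function.Injective rho7 := by
  have hs := simple_St
  rw [← MonoidHom.ker_eq_bot_iff]
  rcases (rho7.normal_ker).eq_bot_or_eq_top with h | h
  · exact h
  · exfalso
    have hm : chevG2.stGen F3 6 1 ∈ rho7.ker := by rw [h]; trivial
    rw [MonoidHom.mem_ker, rho7_stGen] at hm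
    have := congrArg Units.val hm
    rw [YU_val, Units.val_one] at this
    exact Y7_six_ne this

/-- the matrix of a group element -/
noncomputable def mat (g : St) : M7 := ((rho7 g : M7ˣ) : M7)

theorem mat_mul (g h : St) : mat (g * h) = mat g * mat h := by
  unfold mat
  rw [map_mul, Units.val_mul]

theorem mat_one : mat 1 = 1 := by
  unfold mat
  rw [map_one, Units.val_one]

theorem mat_pow (g : St) (k : ℕ) : mat (g ^ k) = mat g ^ k := by
  unfold mat
  rw [map_pow, Units.val_pow_eq_pow_val]

theorem mat_injective : Function.Injective mat := fun g h e =>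
  rho7_injective (Units.val_injective e)

theorem mat_stW (w : List (ℕ × F3)) : mat (stW w) = wm w := rho7_stW_val w

/-! ### orders -/

/-- powers with the sums written out -/
def pw (M : M7) : ℕ → M7
  | 0 => one7
  | k + 1 => mul7 M (pw M k)

theorem pw_eq (M : M7) (k : ℕ) : pw M k = M ^ k := by
  induction k with
  | zero => rw [pow_zero]; exact one7_eq
  | succ k ih =>
    have : pw M (k + 1) = mul7 M (pw M k) := rfl
    rw [this, ih, mul7_eq, pow_succ']

/-- Boolean test that a matrix has order `n` -/
def ordChk (M : M7) (n : ℕ) : Bool :=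
  eq7 (pw M n) one7 && (List.range n).all fun m => m == 0 || !(eq7 (pw M m) one7)

theorem orderOf_of_ordChk {M : M7} {n : ℕ} (hn : 0 < n) (h : ordChk M n = true) : orderOf M = n := by
  unfold ordChk at h
  rw [Bool.and_eq_true, eq7_iff, pw_eq, one7_eq, List.all_eq_true] at h
  rw [orderOf_eq_iff hn]
  refine ⟨h.1, fun m hm hm0 => ?_⟩
  have := h.2 m (List.mem_range.mpr hm)
  rw [Bool.or_eq_true] at this
  rcases this with h0 | h1
  · exact absurd (by simpa using h0) hm0.ne'
  · intro hM
    have h2 : eq7 (pw M m) 1 = true := by rw [eq7_iff, pw_eq, hM]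
    rw [h2] at h1
    simp at h1

theorem orderOf_stW {w : List (ℕ × F3)} {n : ℕ} (hn : 0 < n) (h : ordChk (wm w) n = true) :
    orderOf (stW w) = n := by
  rw [← orderOf_injective rho7 rho7_injective (stW w),
    ← orderOf_injective (Units.coeHom M7) Units.val_injective (rho7 (stW w))]
  show orderOf ((rho7 (stW w) : M7ˣ) : M7) = n
  rw [rho7_stW_val]
  exact orderOf_of_ordChk hn h

/-- the chosen elements -/
def w6 : List (ℕ × F3) := [(8, 1), (3, 2)]
def w13 : List (ℕ × F3) := [(3, 2), (9, 1), (1, 1)]
def w7 : List (ℕ × F3) := [(6, 2), (0, 2), (2, 1), (10, 1)]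

theorem order_w6 : orderOf (stW w6) = 6 := orderOf_stW (by norm_num) (by decide +kernel)
theorem order_w7 : orderOf (stW w7) = 7 := orderOf_stW (by norm_num) (by decide +kernel)
theorem order_w13 : orderOf (stW w13) = 13 := orderOf_stW (by norm_num) (by decide +kernel)

end Cfsg.Agent.Helper19.G23
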