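import Cfsg.Agent.Helper6.G2Odd.Cent4
import Cfsg.Agent.Helper6.G2Odd.Invol

/-!
# `G₂(3)` has no elements of order `2p` for a prime `p > 3`

Every involution is conjugate to the standard one, whose centralizer has order `576`.
-/

set_option autoImplicit false
set_option linter.all false

namespace Cfsg.Agent.Helper19.G23

open Cfsg.Lie Cfsg.Agent.Helper6.G2Odd

theorem no_order_two_mul {F : Type*} [Field F] [Fintype F] (hF : Fintype.card F = 3) (p : ℕ)
    (hp : p.Prime) (hp576 : ¬ p ∣ 576) : ¬ ∃ x : ↥(chevG2.group F), orderOf x = 2 * p := by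
  rintro ⟨x, hx⟩
  have hq : Odd (Fintype.card F) := by rw [hF]; decide
  -- the involution
  have ht_ord : orderOf (x ^ p) = 2 := by
    rw [orderOf_pow_of_dvd hp.ne_zero (hx ▸ Dvd.intro_left 2 rfl), hx]
    exact Nat.mul_div_cancel _ hp.pos
  have hy_ord : orderOf (x ^ 2) = p := by
    rw [orderOf_pow_of_dvd two_ne_zero (hx ▸ Dvd.intro _ rfl), hx]
    exact Nat.mul_div_cancel_left _ two_pos
  have h2 : ((x ^ p : ↥(chevG2.group F)) : GL chevG2.Idx F) * ((x ^ p : ↥(chevG2.group F)) : GL chevG2.Idx F) = 1 := by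
    have h := pow_orderOf_eq_one (x ^ p)
    rw [ht_ord, pow_two] at h
    have := congrArg Subtype.val h
    simpa using this
  have h1 : ((x ^ p : ↥(chevG2.group F)) : GL chevG2.Idx F) ≠ 1 := by
    intro h
    have h' : x ^ p = 1 := Subtype.ext h
    rw [h', orderOf_one] at ht_ord
    omega
  obtain ⟨g, hg, hgt⟩ := invol_conj_z0 hq (x ^ p).2 h2 h1
  have hcomm : ((x ^ p : ↥(chevG2.group F)) : GL chevG2.Idx F) * ((x ^ 2 : ↥(chevG2.group F)) : GL chevG2.Idx F)
      = ((x ^ 2 : ↥(chevG2.group F)) : GL chevG2.Idx F) * ((x ^ p : ↥(chevG2.group F)) : GL chevG2.Idx F) := by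
    have := congrArg Subtype.val (Commute.pow_pow_self x p 2).eq
    simpa using this
  set t : GL chevG2.Idx F := ((x ^ p : ↥(chevG2.group F)) : GL chevG2.Idx F) with ht
  set a : GL chevG2.Idx F := ((x ^ 2 : ↥(chevG2.group F)) : GL chevG2.Idx F) with ha
  have hy_mem : g * a * g⁻¹ ∈ CC F := by
    unfold CC
    rw [Subgroup.mem_inf, Subgroup.mem_centralizer_iff]
    refine ⟨Subgroup.mul_mem _ (Subgroup.mul_mem _ hg (x ^ 2).2) (Subgroup.inv_mem _ hg), ?_⟩
    intro h hh
    rw [Set.mem_singleton_iff] at hh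
    rw [hh, ← hgt]
    calc g * t * g⁻¹ * (g * a * g⁻¹) = g * (t * a) * g⁻¹ := by group
      _ = g * (a * t) * g⁻¹ := by rw [hcomm]
      _ = g * a * g⁻¹ * (g * t * g⁻¹) := by group
  have hy_ord' : orderOf (g * a * g⁻¹) = p := by
    have e1 : g * a * g⁻¹ = MulAut.conj g a := rfl
    rw [e1, MulEquiv.orderOf_eq, ha, Subgroup.orderOf_coe, hy_ord]
  have hdvd : p ∣ Nat.card (CC F) := hy_ord' ▸ Subgroup.orderOf_dvd_natCard (CC F) hy_mem
  rw [card_CC hq, hF] at hdvd
  exact hp576 (by norm_num at hdvd; exact hdvd)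

end Cfsg.Agent.Helper19.G23
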