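import Cfsg.Agent.Helper19.G23.Comm7a
import Cfsg.Agent.Helper19.G23.Comm7b
import Cfsg.Agent.Helper19.G23.Comm7c
import Cfsg.Agent.Helper19.G24.PGraph

/-!
# `G₂(3)` has no elements of order 21, 39 or 91
-/

set_option autoImplicit false
set_option linter.all false

namespace Cfsg.Agent.Helper19.G23

open Cfsg.Lie Cfsg.Agent.Helper19.G24

/-- if `p` divides the group order exactly once and the centralizer of one element `u` of order `p`
has no nontrivial elements of order dividing `k`, then there are no elements of order `p * k` -/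
theorem no_order_mul {G : Type*} [Group G] [Finite G] (p : ℕ) [hp : Fact p.Prime]
    (hpG : ¬p ^ 2 ∣ Nat.card G) (u : G) (hu : orderOf u = p) (k : ℕ) (hk : 1 < k)
    (h : ∀ y : G, Commute y u → y ^ k = 1 → y = 1) : ¬ ∃ x : G, orderOf x = p * k := by
  rintro ⟨x, hx⟩
  have hk0 : k ≠ 0 := by omega
  have ha : orderOf (x ^ k) = p := by
    rw [orderOf_pow_of_dvd hk0 (hx ▸ Dvd.intro_left p rfl), hx]
    exact Nat.mul_div_cancel _ (by omega)
  obtain ⟨c, m, hcm⟩ := exists_conj_zpow_of_sq_not_dvd p hpG hu ha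
  have hu' : u = c * (x ^ k) ^ m * c⁻¹ := by
    rw [← hcm]; group
  have hy : c * x ^ p * c⁻¹ = 1 := by
    apply h
    · rw [hu']
      show c * x ^ p * c⁻¹ * (c * (x ^ k) ^ m * c⁻¹) = c * (x ^ k) ^ m * c⁻¹ * (c * x ^ p * c⁻¹)
      have hc : x ^ p * (x ^ k) ^ m = (x ^ k) ^ m * x ^ p :=
        ((Commute.pow_pow_self x p k).zpow_right m).eq
      calc c * x ^ p * c⁻¹ * (c * (x ^ k) ^ m * c⁻¹) = c * (x ^ p * (x ^ k) ^ m) * c⁻¹ := by group
        _ = c * ((x ^ k) ^ m * x ^ p) * c⁻¹ := by rw [hc]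
        _ = c * (x ^ k) ^ m * c⁻¹ * (c * x ^ p * c⁻¹) := by group
    · have e1 : c * x ^ p * c⁻¹ = MulAut.conj c (x ^ p) := rfl
      rw [e1, ← map_pow, ← pow_mul, ← hx, pow_orderOf_eq_one, map_one]
  have hxp : x ^ p = 1 := by
    calc x ^ p = c⁻¹ * (c * x ^ p * c⁻¹) * c := by group
      _ = 1 := by rw [hy]; group
  have hdvd : p * k ∣ p := hx ▸ orderOf_dvd_of_pow_eq_one hxp
  have := Nat.le_of_dvd hp.out.pos hdvd
  have hp1 := hp.out.one_lt
  nlinarith

theorem comm_stW_trivial {w : List (ℕ × F3)} {K' : M7} {m : Fin 7} {k : ℕ}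
    (hK : eq7 (mul7 (kryC (wm w) m) K') one7 = true) (hchk : chkComm (wm w) k = true) (y : St)
    (hy : Commute y (stW w)) (hyk : y ^ k = 1) : y = 1 := by
  apply mat_injective
  rw [mat_one]
  apply comm_trivial hK hchk (mat y)
  · rw [← mat_stW, ← mat_mul, ← mat_mul, hy.eq]
  · rw [← mat_pow, hyk, mat_one]

instance fact_seven : Fact (Nat.Prime 7) := ⟨by norm_num⟩
instance fact_thirteen : Fact (Nat.Prime 13) := ⟨by norm_num⟩

theorem no_order_39 : ¬ ∃ x : St, orderOf x = 13 * 3 :=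
  no_order_mul 13 (by rw [card_St]; norm_num) (stW w13) order_w13 3 (by norm_num)
    (comm_stW_trivial kry13 chk13_3)

theorem no_order_91 : ¬ ∃ x : St, orderOf x = 13 * 7 :=
  no_order_mul 13 (by rw [card_St]; norm_num) (stW w13) order_w13 7 (by norm_num)
    (comm_stW_trivial kry13 chk13_7)

theorem no_order_21 : ¬ ∃ x : St, orderOf x = 7 * 3 :=
  no_order_mul 7 (by rw [card_St]; norm_num) (stW w7) order_w7 3 (by norm_num)
    (comm_stW_trivial kry7 chk7_3)

end Cfsg.Agent.Helper19.G23
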