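import Cfsg.Agent.Helper13.PSL2Spec

/-!
# Element orders of `PSL₂(13)`
-/

set_option autoImplicit false
set_option linter.all false

namespace Cfsg.Agent.Helper19.G23

theorem params13 {E : Type*} [Field E] [Fintype E] (hE : Fintype.card E = 13) :
    Cfsg.Agent.Helper13.PSL2Spec.Params E 13 2 6 7 := by
  have : Fact (Nat.Prime 13) := ⟨by norm_num⟩
  refine ⟨by norm_num, charP_of_card_eq_prime hE, Or.inr rfl, ?_, ?_, ?_⟩
  · rw [hE]
  · rw [hE]
  · intro c hc
    rw [pow_two]; exact hc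

/-- the element orders of `PSL₂(13)` -/
theorem exists_orderOf_psl13 {E : Type*} [Field E] [Fintype E] (hE : Fintype.card E = 13) (n : ℕ) :
    (∃ y : Matrix.ProjectiveSpecialLinearGroup (Fin 2) E, orderOf y = n) ↔
      (n ∣ 13 ∨ n ∣ 6 ∨ n ∣ 7) := by
  have h := Cfsg.Agent.Helper13.PSL2Spec.range_orderOf_PSL2 (params13 hE)
  constructor
  · rintro ⟨y, rfl⟩
    have hy : orderOf y ∈
        Set.range (orderOf : Matrix.ProjectiveSpecialLinearGroup (Fin 2) E → ℕ) := ⟨y, rfl⟩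
    rw [h] at hy
    exact hy
  · intro hn
    have hn' : n ∈ {n : ℕ | n ∣ 13 ∨ n ∣ 6 ∨ n ∣ 7} := hn
    rw [← h] at hn'
    exact hn'

end Cfsg.Agent.Helper19.G23
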