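import Mathlib
import Cfsg.Prelude.Def_Steinberg
import Cfsg.Prelude.Def_ChevG2

/-!
# The seven-dimensional module of `G₂(3)`

Explicit `7 × 7` matrices `Y7 r t` over `ZMod 3` satisfying Steinberg's relations for the datum
`chevG2` (checked by kernel evaluation).
-/

set_option autoImplicit false
set_option linter.all false

namespace Cfsg.Agent.Helper19.G23

open Cfsg.Lie

/-- the field with three elements -/
abbrev F3 : Type := ZMod 3

/-- `7 × 7` matrices over the field with three elements -/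
abbrev M7 : Type := Matrix (Fin 7) (Fin 7) F3

/-- entries of the root elements `1 + t e_r + t² e_r²/2` on the seven-dimensional module -/
def yE (r : ℕ) (t : F3) (i j : ℕ) : F3 :=
  match r, i, j with
  | 0, 0, 5 => 2 * t
  | 0, 1, 6 => 2 * t
  | 1, 0, 4 => 2 * t
  | 1, 2, 6 => t
  | 2, 0, 3 => t
  | 2, 0, 6 => t * t
  | 2, 1, 4 => t
  | 2, 2, 5 => t
  | 2, 3, 6 => 2 * t
  | 3, 0, 2 => t
  | 3, 1, 3 => t
  | 3, 1, 5 => 2 * (t * t)
  | 3, 3, 5 => t
  | 3, 4, 6 => 2 * t
  | 4, 0, 1 => t
  | 4, 2, 3 => 2 * t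
  | 4, 2, 4 => t * t
  | 4, 3, 4 => t
  | 4, 5, 6 => t
  | 5, 1, 2 => t
  | 5, 4, 5 => t
  | 6, 2, 1 => t
  | 6, 5, 4 => t
  | 7, 1, 0 => t
  | 7, 3, 2 => t
  | 7, 4, 2 => t * t
  | 7, 4, 3 => 2 * t
  | 7, 6, 5 => t
  | 8, 2, 0 => t
  | 8, 3, 1 => 2 * t
  | 8, 5, 1 => 2 * (t * t)
  | 8, 5, 3 => 2 * t
  | 8, 6, 4 => 2 * t
  | 9, 3, 0 => 2 * t
  | 9, 4, 1 => t
  | 9, 5, 2 => t
  | 9, 6, 0 => t * t
  | 9, 6, 3 => t
  | 10, 4, 0 => 2 * t
  | 10, 6, 2 => t
  | 11, 5, 0 => 2 * t
  | 11, 6, 1 => 2 * t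
  | _, i, j => if i = j then 1 else 0

/-- the identity matrix, in a form that evaluates well -/
def one7 : M7 := Matrix.of fun i j => if i.val = j.val then 1 else 0

theorem one7_eq : one7 = 1 := by
  ext i j
  simp [one7, Matrix.one_apply, Fin.ext_iff]

/-- the root element `x_r(t)` on the seven-dimensional module (identity out of range) -/
def Y7 (r : ℕ) (t : F3) : M7 :=
  if r < 12 then Matrix.of fun i j => yE r t i.val j.val else one7

/-- matrix product with the sums written out -/
def mul7 (A B : M7) : M7 :=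
  Matrix.of fun i j => A i 0 * B 0 j + A i 1 * B 1 j + A i 2 * B 2 j + A i 3 * B 3 j +
    A i 4 * B 4 j + A i 5 * B 5 j + A i 6 * B 6 j

theorem mul7_eq (A B : M7) : mul7 A B = A * B := by
  ext i j
  simp [mul7, Matrix.mul_apply, Fin.sum_univ_seven]

/-- the matrix of a word in root elements -/
def wm (w : List (ℕ × F3)) : M7 := w.foldr (fun p acc => mul7 (Y7 p.1 p.2) acc) one7

theorem wm_eq (w : List (ℕ × F3)) : wm w = (w.map fun p => Y7 p.1 p.2).prod := by
  induction w with
  | nil => simp [wm, one7_eq]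
  | cons a w ih =>
    have : wm (a :: w) = mul7 (Y7 a.1 a.2) (wm w) := rfl
    rw [this, ih, mul7_eq, List.map_cons, List.prod_cons]

def allFin7 (f : Fin 7 → Bool) : Bool := f 0 && f 1 && f 2 && f 3 && f 4 && f 5 && f 6

theorem allFin7_iff (f : Fin 7 → Bool) : allFin7 f = true ↔ ∀ i, f i = true := by
  unfold allFin7
  constructor
  · intro h i
    simp only [Bool.and_eq_true] at h
    fin_cases i <;> simp_all
  · intro h
    simp [h]

/-- Boolean equality test for matrices -/
def eq7 (A B : M7) : Bool := allFin7 fun i => allFin7 fun j => decide (A i j = B i j)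

theorem eq7_iff (A B : M7) : eq7 A B = true ↔ A = B := by
  unfold eq7
  rw [allFin7_iff]
  constructor
  · intro h
    ext i j
    have := (allFin7_iff _).mp (h i) j
    simpa using this
  · rintro rfl i
    rw [allFin7_iff]
    intro j
    simp

def allF3 (f : F3 → Bool) : Bool := f 0 && f 1 && f 2

theorem allF3_iff (f : F3 → Bool) : allF3 f = true ↔ ∀ a, f a = true := by
  unfold allF3
  constructor
  · intro h a
    simp only [Bool.and_eq_true] at h
    obtain ⟨⟨h0, h1⟩, h2⟩ := h
    fin_cases a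
    · exact h0
    · exact h1
    · exact h2
  · intro h
    simp [h]

def all12 (f : ℕ → Bool) : Bool := (List.range 12).all f

theorem all12_iff (f : ℕ → Bool) : all12 f = true ↔ ∀ r < 12, f r = true := by
  unfold all12
  simp [List.all_eq_true, List.mem_range]

/-! ### the checks -/

/-- (R0) `x_r(t) x_r(-t) = 1` -/
def chkR0 : Bool := all12 fun r => allF3 fun a => eq7 (mul7 (Y7 r a) (Y7 r (-a))) one7

/-- (R1) additivity -/
def chkR1 : Bool := all12 fun r => allF3 fun a => allF3 fun b =>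
  eq7 (mul7 (Y7 r a) (Y7 r b)) (Y7 r (a + b))

/-- (R2) the commutator formula, for a fixed first root -/
def chkR2 (r : ℕ) : Bool := all12 fun s => (s == r || s == chevG2.neg r) ||
  allF3 fun t => allF3 fun u =>
    eq7 (wm [(s, -u), (r, -t), (s, u), (r, t)]) (wm (chevG2.commWord F3 r s t u))

/-- (R3) multiplicativity of the `h_r(t)` -/
def chkR3 : Bool := all12 fun r => allF3 fun a => allF3 fun b => (a == 0 || b == 0) ||
  eq7 (mul7 (wm (chevG2.hWord r a)) (wm (chevG2.hWord r b))) (wm (chevG2.hWord r (a * b)))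

theorem chkR0_true : chkR0 = true := by decide +kernel
theorem chkR1_true : chkR1 = true := by decide +kernel
theorem chkR3_true : chkR3 = true := by decide +kernel

end Cfsg.Agent.Helper19.G23
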