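import Cfsg.Agent.Helper19.G23.Rep7R2a
import Cfsg.Agent.Helper19.G23.Rep7R2b

/-!
# The homomorphism from the Steinberg group of type `G₂` over `F3` to `GL₇(3)`
-/

set_option autoImplicit false
set_option linter.all false

namespace Cfsg.Agent.Helper19.G23

open Cfsg.Lie

theorem nroots_eq : chevG2.nroots = 12 := rfl

theorem chkR2_all : ∀ r < 12, chkR2 r = true := by
  intro r hr
  interval_cases r
  · exact chkR2_0
  · exact chkR2_1
  · exact chkR2_2
  · exact chkR2_3
  · exact chkR2_4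
  · exact chkR2_5
  · exact chkR2_6
  · exact chkR2_7
  · exact chkR2_8
  · exact chkR2_9
  · exact chkR2_10
  · exact chkR2_11

theorem Y7_of_ge {r : ℕ} (hr : ¬ r < 12) (t : F3) : Y7 r t = 1 := by
  unfold Y7
  rw [if_neg hr, one7_eq]

theorem Y7_neg (r : ℕ) (t : F3) : Y7 r t * Y7 r (-t) = 1 := by
  by_cases hr : r < 12
  · have h := (allF3_iff _).mp ((all12_iff _).mp chkR0_true r hr) t
    rw [eq7_iff, mul7_eq, one7_eq] at h
    exact h
  · rw [Y7_of_ge hr, Y7_of_ge hr, mul_one]

theorem Y7_neg' (r : ℕ) (t : F3) : Y7 r (-t) * Y7 r t = 1 := by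
  have := Y7_neg r (-t)
  rwa [neg_neg] at this

theorem Y7_add (r : ℕ) (a b : F3) : Y7 r a * Y7 r b = Y7 r (a + b) := by
  by_cases hr : r < 12
  · have h := (allF3_iff _).mp ((allF3_iff _).mp ((all12_iff _).mp chkR1_true r hr) a) b
    rw [eq7_iff, mul7_eq] at h
    exact h
  · rw [Y7_of_ge hr, Y7_of_ge hr, Y7_of_ge hr, mul_one]

/-- the root elements as units -/
def YU (r : ℕ) (t : F3) : M7ˣ := ⟨Y7 r t, Y7 r (-t), Y7_neg r t, Y7_neg' r t⟩

@[simp] theorem YU_val (r : ℕ) (t : F3) : ((YU r t : M7ˣ) : M7) = Y7 r t := rfl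

theorem YU_inv (r : ℕ) (t : F3) : (YU r t)⁻¹ = YU r (-t) := by
  apply Units.ext
  show Y7 r (-t) = Y7 r (-t)
  rfl

theorem YU_of_ge {r : ℕ} (hr : ¬ r < 12) (t : F3) : YU r t = 1 := by
  apply Units.ext
  rw [YU_val, Y7_of_ge hr]
  rfl

theorem YU_add (r : ℕ) (a b : F3) : YU r a * YU r b = YU r (a + b) := by
  apply Units.ext
  rw [Units.val_mul, YU_val, YU_val, YU_val, Y7_add]

/-- the product of a word of units -/
def wU (w : List (ℕ × F3)) : M7ˣ := (w.map fun p => YU p.1 p.2).prod

theorem wU_val (w : List (ℕ × F3)) : ((wU w : M7ˣ) : M7) = wm w := by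
  rw [wm_eq]
  unfold wU
  induction w with
  | nil => simp
  | cons a w ih =>
    rw [List.map_cons, List.prod_cons, Units.val_mul, ih, List.map_cons, List.prod_cons, YU_val]

theorem wU_append (v w : List (ℕ × F3)) : wU (v ++ w) = wU v * wU w := by
  unfold wU
  rw [List.map_append, List.prod_append]

/-- images of the generators -/
def gen7 (p : Fin chevG2.nroots × F3) : M7ˣ := YU p.1.val p.2

/-- the homomorphism on the free group -/
def lift7 : FreeGroup (Fin chevG2.nroots × F3) →* M7ˣ := FreeGroup.lift gen7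

theorem lift7_stX (r : ℕ) (t : F3) : lift7 (chevG2.stX r t) = YU r t := by
  unfold ChevalleyDatum.stX
  by_cases h : r < chevG2.nroots
  · rw [dif_pos h]
    unfold lift7
    rw [FreeGroup.lift_apply_of]
    rfl
  · rw [dif_neg h, map_one]
    have h' : ¬ r < 12 := by rw [nroots_eq] at h; exact h
    rw [YU_of_ge h']

theorem lift7_stWord (w : List (ℕ × F3)) : lift7 (chevG2.stWord w) = wU w := by
  unfold ChevalleyDatum.stWord wU
  induction w with
  | nil => simp
  | cons a w ih =>
    rw [List.map_cons, List.prod_cons, map_mul, ih, lift7_stX, List.map_cons, List.prod_cons]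

theorem lift7_stH (r : ℕ) (t : F3) : lift7 (chevG2.stH r t) = wU (chevG2.hWord r t) :=
  lift7_stWord _

theorem rel_R2 {r s : ℕ} (hr : r < 12) (hs : s < 12) (hsr : s ≠ r) (hsn : s ≠ chevG2.neg r)
    (t u : F3) :
    YU s (-u) * YU r (-t) * YU s u * YU r t = wU (chevG2.commWord F3 r s t u) := by
  have h := (all12_iff _).mp (chkR2_all r hr) s hs
  rw [Bool.or_eq_true, Bool.or_eq_true] at h
  rcases h with (h | h) | h
  · exact absurd (by simpa using h) hsr
  · exact absurd (by simpa using h) hsn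
  · have h2 := (allF3_iff _).mp ((allF3_iff _).mp h t) u
    rw [eq7_iff] at h2
    apply Units.ext
    rw [wU_val, ← h2, wm_eq]
    simp only [List.map_cons, List.map_nil, List.prod_cons, List.prod_nil, mul_one,
      Units.val_mul, YU_val, mul_assoc]

theorem rel_R3 {r : ℕ} (hr : r < 12) {a b : F3} (ha : a ≠ 0) (hb : b ≠ 0) :
    wU (chevG2.hWord r a) * wU (chevG2.hWord r b) = wU (chevG2.hWord r (a * b)) := by
  have h := (allF3_iff _).mp ((allF3_iff _).mp ((all12_iff _).mp chkR3_true r hr) a) b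
  rw [Bool.or_eq_true, Bool.or_eq_true] at h
  rcases h with (h | h) | h
  · exact absurd (by simpa using h) ha
  · exact absurd (by simpa using h) hb
  · rw [eq7_iff, mul7_eq] at h
    apply Units.ext
    rw [Units.val_mul, wU_val, wU_val, wU_val, h]

theorem lift7_rels : ∀ g ∈ chevG2.steinbergRels F3, lift7 g = 1 := by
  intro g hg
  rcases hg with (⟨r, a, b, hr, rfl⟩ | ⟨r, s, t, u, hr, hs, hsr, hsn, rfl⟩) | ⟨r, a, b, hr, ha, hb, rfl⟩
  · rw [map_mul, map_mul, map_inv, lift7_stX, lift7_stX, lift7_stX, YU_add, mul_inv_cancel]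
  · rw [nroots_eq] at hr hs
    rw [map_mul, map_mul, map_mul, map_mul, map_inv, map_inv, map_inv, lift7_stX, lift7_stX,
      lift7_stWord, YU_inv, YU_inv, rel_R2 hr hs hsr hsn, mul_inv_cancel]
  · rw [nroots_eq] at hr
    rw [map_mul, map_mul, map_inv, lift7_stH, lift7_stH, lift7_stH, rel_R3 hr ha hb,
      mul_inv_cancel]

/-- the seven-dimensional representation of the Steinberg group -/
def rho7 : chevG2.SteinbergGroup F3 →* M7ˣ := PresentedGroup.toGroup lift7_rels

theorem rho7_stGen (r : ℕ) (t : F3) : rho7 (chevG2.stGen F3 r t) = YU r t := by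
  unfold rho7 ChevalleyDatum.stGen
  have : (PresentedGroup.toGroup lift7_rels) (PresentedGroup.mk (chevG2.steinbergRels F3) (chevG2.stX r t))
      = lift7 (chevG2.stX r t) := rfl
  rw [this, lift7_stX]

end Cfsg.Agent.Helper19.G23
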