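import Cfsg.Agent.Helper19.G23.Rep7

/-! The commutator relations (R2) for six of the roots, by kernel evaluation. -/

set_option autoImplicit false

namespace Cfsg.Agent.Helper19.G23

theorem chkR2_0 : chkR2 0 = true := by decide +kernel
theorem chkR2_1 : chkR2 1 = true := by decide +kernel
theorem chkR2_2 : chkR2 2 = true := by decide +kernel
theorem chkR2_3 : chkR2 3 = true := by decide +kernel
theorem chkR2_4 : chkR2 4 = true := by decide +kernel
theorem chkR2_5 : chkR2 5 = true := by decide +kernel

end Cfsg.Agent.Helper19.G23
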